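import Mathlib
import Groth.Prelude.Def_AnPts
import Groth.Agent.Lib.Helper7.AnPts4

set_option linter.style.haveILetI false
set_option linter.unusedVariables false
set_option linter.unusedSectionVars false
set_option autoImplicit false
set_option backward.isDefEq.respectTransparency.types false
set_option synthInstance.maxHeartbeats 400000
set_option maxHeartbeats 800000

open AlgebraicGeometry CategoryTheory TopologicalSpace Opposite An Topology Limits
open Groth.Agent.Helper7.AnPts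

namespace Groth.Agent.Helper7.AnProd

/-- A pushout of commutative rings is generated by the images of the two factors. -/
theorem subring_eq_top_of_isPushout {A B C P : CommRingCat.{0}} {f : A ⟶ B} {g : A ⟶ C}
    {inl : B ⟶ P} {inr : C ⟶ P} (h : IsPushout f g inl inr) (𝒜 : Subring P)
    (hl : ∀ b, inl b ∈ 𝒜) (hr : ∀ c, inr c ∈ 𝒜) : 𝒜 = ⊤ := by
  let inl' : B ⟶ CommRingCat.of 𝒜 := CommRingCat.ofHom (inl.hom.codRestrict 𝒜 hl)
  let inr' : C ⟶ CommRingCat.of 𝒜 := CommRingCat.ofHom (inr.hom.codRestrict 𝒜 hr)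
  have hcomm : f ≫ inl' = g ≫ inr' := by
    ext a
    exact congr($(h.w) a)
  let u := h.desc inl' inr' hcomm
  let ι : CommRingCat.of 𝒜 ⟶ P := CommRingCat.ofHom 𝒜.subtype
  have h1 : inl ≫ (u ≫ ι) = inl := by
    rw [← Category.assoc, h.inl_desc]
    rfl
  have h2 : inr ≫ (u ≫ ι) = inr := by
    rw [← Category.assoc, h.inr_desc]
    rfl
  have h3 : u ≫ ι = 𝟙 P :=
    h.hom_ext (by rw [h1, Category.comp_id]) (by rw [h2, Category.comp_id])
  rw [eq_top_iff]
  intro p _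
  have h4 : (u ≫ ι) p = p := by
    rw [h3]
    rfl
  rw [← h4]
  exact (u p).2

section Cmp

variable {X Y S : Scheme.{0}} [X.Over SC] [Y.Over SC] [S.Over SC] (f : X ⟶ S) (g : Y ⟶ S)
  [f.IsOver SC] [g.IsOver SC]

/-- The comparison map from the complex points of a fibre product to the fibre product of the
spaces of complex points. -/
noncomputable def cmp (z : Pts (pullback f g)) : {q : Pts X × Pts Y // Pts.map f q.1 = Pts.map g q.2} :=
  ⟨(Pts.map (pullback.fst f g) z, Pts.map (pullback.snd f g) z), Pts.map_pullback_condition f g z⟩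

theorem cmp_injective : Function.Injective (cmp f g) := by
  intro z z' h
  have h1 : Pts.map (pullback.fst f g) z = Pts.map (pullback.fst f g) z' :=
    congrArg (fun q => q.1.1) h
  have h2 : Pts.map (pullback.snd f g) z = Pts.map (pullback.snd f g) z' :=
    congrArg (fun q => q.1.2) h
  apply Subtype.ext
  apply pullback.hom_ext
  · exact congrArg Subtype.val h1
  · exact congrArg Subtype.val h2

theorem cmp_surjective : Function.Surjective (cmp f g) := by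
  rintro ⟨⟨x, y⟩, hxy⟩
  have h : x.1 ≫ f = y.1 ≫ g := congrArg Subtype.val hxy
  refine ⟨⟨pullback.lift x.1 y.1 h, ?_⟩, ?_⟩
  · show pullback.lift x.1 y.1 h ≫ (pullback.fst f g ≫ X ↘ SC) = 𝟙 SC
    rw [← Category.assoc, pullback.lift_fst]
    exact x.2
  · apply Subtype.ext
    apply Prod.ext
    · apply Subtype.ext
      exact pullback.lift_fst _ _ _
    · apply Subtype.ext
      exact pullback.lift_snd _ _ _

theorem cmp_continuous : Continuous (cmp f g) :=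
  Continuous.subtype_mk ((Pts.continuous_map _).prodMk (Pts.continuous_map _)) _

theorem isInducing_affine [IsAffine X] [IsAffine Y] [IsAffine S] :
    IsInducing (fun z : Pts (pullback f g) =>
      (Pts.map (pullback.fst f g) z, Pts.map (pullback.snd f g) z)) := by
  haveI : IsAffine (pullback f g) := inferInstance
  have hpo : IsPushout f.appTop g.appTop (pullback.fst f g).appTop (pullback.snd f g).appTop :=
    isPushout_appTop_of_isPullback (IsPullback.of_hasPullback f g)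
  refine isInducing_of_evTop_factor _
    ((Pts.continuous_map _).prodMk (Pts.continuous_map _)) ?_
  let 𝒜 : Subring Γ(pullback f g, ⊤) :=
    { carrier := {a | ∃ c : Pts X × Pts Y → ℂ, Continuous c ∧ ∀ z : Pts (pullback f g),
        z.evTop a = c (Pts.map (pullback.fst f g) z, Pts.map (pullback.snd f g) z)}
      mul_mem' := by
        rintro a b ⟨c, hc, hca⟩ ⟨d, hd, hdb⟩
        refine ⟨fun q => c q * d q, hc.mul hd, fun z => ?_⟩
        show z.evTop (a * b) = c (Pts.map (pullback.fst f g) z, Pts.map (pullback.snd f g) z) *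
          d (Pts.map (pullback.fst f g) z, Pts.map (pullback.snd f g) z)
        rw [← hca z, ← hdb z, evTop_eq, evTop_eq, evTop_eq, map_mul]
      one_mem' := ⟨fun _ => 1, continuous_const, fun z => by rw [evTop_eq, map_one]⟩
      add_mem' := by
        rintro a b ⟨c, hc, hca⟩ ⟨d, hd, hdb⟩
        refine ⟨fun q => c q + d q, hc.add hd, fun z => ?_⟩
        show z.evTop (a + b) = c (Pts.map (pullback.fst f g) z, Pts.map (pullback.snd f g) z) +
          d (Pts.map (pullback.fst f g) z, Pts.map (pullback.snd f g) z)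
        rw [← hca z, ← hdb z, evTop_eq, evTop_eq, evTop_eq, map_add]
      zero_mem' := ⟨fun _ => 0, continuous_const, fun z => by rw [evTop_eq, map_zero]⟩
      neg_mem' := by
        rintro a ⟨c, hc, hca⟩
        refine ⟨fun q => - c q, hc.neg, fun z => ?_⟩
        show z.evTop (-a) = - c (Pts.map (pullback.fst f g) z, Pts.map (pullback.snd f g) z)
        rw [← hca z, evTop_eq, evTop_eq, map_neg] }
  have htop : 𝒜 = ⊤ := by
    refine subring_eq_top_of_isPushout hpo 𝒜 ?_ ?_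
    · intro b
      refine ⟨fun q => q.1.evTop b, (continuous_evTop b).comp continuous_fst, fun z => ?_⟩
      exact (evTop_map (pullback.fst f g) z b).symm
    · intro b
      refine ⟨fun q => q.2.evTop b, (continuous_evTop b).comp continuous_snd, fun z => ?_⟩
      exact (evTop_map (pullback.snd f g) z b).symm
  intro a
  have ha : a ∈ 𝒜 := by
    rw [htop]
    trivial
  exact ha

end Cmp

section Local

variable {X Y S X₀ Y₀ S₀ : Scheme.{0}} [X.Over SC] [Y.Over SC] [S.Over SC]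
  [X₀.Over SC] [Y₀.Over SC] [S₀.Over SC]
  (f : X ⟶ S) (g : Y ⟶ S) [f.IsOver SC] [g.IsOver SC]
  (f₀ : X₀ ⟶ S₀) (g₀ : Y₀ ⟶ S₀) [f₀.IsOver SC] [g₀.IsOver SC]
  (i₁ : X₀ ⟶ X) (i₂ : Y₀ ⟶ Y) (i₃ : S₀ ⟶ S) [i₁.IsOver SC] [i₂.IsOver SC] [i₃.IsOver SC]
  [IsOpenImmersion i₁] [IsOpenImmersion i₂] [IsOpenImmersion i₃]
  (e₁ : f₀ ≫ i₃ = i₁ ≫ f) (e₂ : g₀ ≫ i₃ = i₂ ≫ g)

instance map_isOver : (pullback.map f₀ g₀ f g i₁ i₂ i₃ e₁ e₂).IsOver SC := ⟨by
  show pullback.map f₀ g₀ f g i₁ i₂ i₃ e₁ e₂ ≫ (pullback.fst f g ≫ X ↘ SC) =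
    pullback.fst f₀ g₀ ≫ X₀ ↘ SC
  rw [← Category.assoc, pullback.lift_fst, Category.assoc, comp_over]⟩

theorem image_mem_nhds [IsAffine X₀] [IsAffine Y₀] [IsAffine S₀]
    (O : Set (Pts (pullback f g))) (hO : IsOpen O) (w₀ : Pts (pullback f₀ g₀))
    (hw : Pts.map (pullback.map f₀ g₀ f g i₁ i₂ i₃ e₁ e₂) w₀ ∈ O) :
    cmp f g '' O ∈ 𝓝 (cmp f g (Pts.map (pullback.map f₀ g₀ f g i₁ i₂ i₃ e₁ e₂) w₀)) := by
  have hind := isInducing_affine f₀ g₀
  have hO' : IsOpen (Pts.map (pullback.map f₀ g₀ f g i₁ i₂ i₃ e₁ e₂) ⁻¹' O) :=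
    hO.preimage (Pts.continuous_map _)
  obtain ⟨Q, hQ, hQO⟩ := hind.isOpen_iff.mp hO'
  have hii : IsOpenMap (Prod.map (Pts.map i₁) (Pts.map i₂)) :=
    (isOpenEmbedding_map_of_isOpenImmersion i₁).isOpenMap.prodMap
      (isOpenEmbedding_map_of_isOpenImmersion i₂).isOpenMap
  have hopen : IsOpen (Subtype.val ⁻¹' (Prod.map (Pts.map i₁) (Pts.map i₂) '' Q) :
      Set {q : Pts X × Pts Y // Pts.map f q.1 = Pts.map g q.2}) :=
    (hii Q hQ).preimage continuous_subtype_val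
  refine Filter.mem_of_superset (hopen.mem_nhds ?_) ?_
  · refine ⟨(Pts.map (pullback.fst f₀ g₀) w₀, Pts.map (pullback.snd f₀ g₀) w₀), ?_, ?_⟩
    · have h1 : w₀ ∈ Pts.map (pullback.map f₀ g₀ f g i₁ i₂ i₃ e₁ e₂) ⁻¹' O := hw
      rw [← hQO] at h1
      exact h1
    · apply Prod.ext
      · apply Subtype.ext
        show (w₀.1 ≫ pullback.fst f₀ g₀) ≫ i₁ =
          (w₀.1 ≫ pullback.map f₀ g₀ f g i₁ i₂ i₃ e₁ e₂) ≫ pullback.fst f g
        rw [Category.assoc, Category.assoc, pullback.lift_fst]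
      · apply Subtype.ext
        show (w₀.1 ≫ pullback.snd f₀ g₀) ≫ i₂ =
          (w₀.1 ≫ pullback.map f₀ g₀ f g i₁ i₂ i₃ e₁ e₂) ≫ pullback.snd f g
        rw [Category.assoc, Category.assoc, pullback.lift_snd]
  · rintro ⟨⟨x, y⟩, hxy⟩ ⟨⟨x₀, y₀⟩, hq, heq⟩
    obtain ⟨rfl, rfl⟩ := Prod.mk.inj heq
    have h0 : Pts.map f₀ x₀ = Pts.map g₀ y₀ := by
      apply map_injective_of_mono i₃
      apply Subtype.ext
      show (x₀.1 ≫ f₀) ≫ i₃ = (y₀.1 ≫ g₀) ≫ i₃
      have h1 : (x₀.1 ≫ i₁) ≫ f = (y₀.1 ≫ i₂) ≫ g := congrArg Subtype.val hxy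
      rw [Category.assoc, Category.assoc, e₁, e₂, ← Category.assoc, ← Category.assoc]
      exact h1
    obtain ⟨w, hw'⟩ := cmp_surjective f₀ g₀ ⟨(x₀, y₀), h0⟩
    have hw1 : Pts.map (pullback.fst f₀ g₀) w = x₀ := congrArg (fun q => q.1.1) hw'
    have hw2 : Pts.map (pullback.snd f₀ g₀) w = y₀ := congrArg (fun q => q.1.2) hw'
    have hwO : w ∈ Pts.map (pullback.map f₀ g₀ f g i₁ i₂ i₃ e₁ e₂) ⁻¹' O := by
      rw [← hQO]
      show (Pts.map (pullback.fst f₀ g₀) w, Pts.map (pullback.snd f₀ g₀) w) ∈ Q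
      rw [hw1, hw2]
      exact hq
    refine ⟨Pts.map (pullback.map f₀ g₀ f g i₁ i₂ i₃ e₁ e₂) w, hwO, ?_⟩
    apply Subtype.ext
    apply Prod.ext
    · show Pts.map (pullback.fst f g) (Pts.map (pullback.map f₀ g₀ f g i₁ i₂ i₃ e₁ e₂) w) =
        Pts.map i₁ x₀
      rw [← hw1]
      apply Subtype.ext
      show (w.1 ≫ pullback.map f₀ g₀ f g i₁ i₂ i₃ e₁ e₂) ≫ pullback.fst f g =
        (w.1 ≫ pullback.fst f₀ g₀) ≫ i₁
      rw [Category.assoc, Category.assoc, pullback.lift_fst]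
    · show Pts.map (pullback.snd f g) (Pts.map (pullback.map f₀ g₀ f g i₁ i₂ i₃ e₁ e₂) w) =
        Pts.map i₂ y₀
      rw [← hw2]
      apply Subtype.ext
      show (w.1 ≫ pullback.map f₀ g₀ f g i₁ i₂ i₃ e₁ e₂) ≫ pullback.snd f g =
        (w.1 ≫ pullback.snd f₀ g₀) ≫ i₂
      rw [Category.assoc, Category.assoc, pullback.lift_snd]

end Local

theorem S4193_main (X Y S : Scheme.{0}) [X.Over SC] [Y.Over SC] [S.Over SC]
    (f : X ⟶ S) (g : Y ⟶ S) [f.IsOver SC] [g.IsOver SC] :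
    IsHomeomorph (cmp f g) := by
  refine ⟨cmp_continuous f g, ?_, cmp_injective f g, cmp_surjective f g⟩
  intro O hO
  rw [isOpen_iff_mem_nhds]
  rintro _ ⟨z₀, hz₀, rfl⟩
  -- affine charts
  have hcond : g (pullback.snd f g z₀.pt) = f (pullback.fst f g z₀.pt) := by
    rw [← Scheme.Hom.comp_apply, ← Scheme.Hom.comp_apply, pullback.condition]
  obtain ⟨_, ⟨S₀, hS₀, rfl⟩, hsS₀, -⟩ := S.isBasis_affineOpens.exists_subset_of_mem_open
    (Set.mem_univ (f (pullback.fst f g z₀.pt))) isOpen_univ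
  replace hS₀ : IsAffineOpen (S₀ : S.Opens) := hS₀
  have hx1 : pullback.fst f g z₀.pt ∈ f ⁻¹ᵁ S₀ := hsS₀
  have hy1 : pullback.snd f g z₀.pt ∈ g ⁻¹ᵁ S₀ := by
    show g (pullback.snd f g z₀.pt) ∈ S₀
    rw [hcond]
    exact hsS₀
  obtain ⟨X₀, hX₀, hxX₀, hXS⟩ := exists_isAffineOpen_mem_and_subset hx1
  obtain ⟨Y₀, hY₀, hyY₀, hYS⟩ := exists_isAffineOpen_mem_and_subset hy1
  haveI : IsAffine (Scheme.Opens.toScheme S₀) := hS₀
  haveI : IsAffine (Scheme.Opens.toScheme X₀) := hX₀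
  haveI : IsAffine (Scheme.Opens.toScheme Y₀) := hY₀
  have hr1 : Set.range (Scheme.Opens.ι X₀ ≫ f) ⊆ Set.range (Scheme.Opens.ι S₀) := by
    rintro _ ⟨q, rfl⟩
    rw [Scheme.Opens.range_ι, Scheme.Hom.comp_apply]
    exact hXS q.2
  have hr2 : Set.range (Scheme.Opens.ι Y₀ ≫ g) ⊆ Set.range (Scheme.Opens.ι S₀) := by
    rintro _ ⟨q, rfl⟩
    rw [Scheme.Opens.range_ι, Scheme.Hom.comp_apply]
    exact hYS q.2
  let f₀ : Scheme.Opens.toScheme X₀ ⟶ Scheme.Opens.toScheme S₀ :=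
    IsOpenImmersion.lift (Scheme.Opens.ι S₀) (Scheme.Opens.ι X₀ ≫ f) hr1
  let g₀ : Scheme.Opens.toScheme Y₀ ⟶ Scheme.Opens.toScheme S₀ :=
    IsOpenImmersion.lift (Scheme.Opens.ι S₀) (Scheme.Opens.ι Y₀ ≫ g) hr2
  have e₁ : f₀ ≫ Scheme.Opens.ι S₀ = Scheme.Opens.ι X₀ ≫ f := IsOpenImmersion.lift_fac _ _ _
  have e₂ : g₀ ≫ Scheme.Opens.ι S₀ = Scheme.Opens.ι Y₀ ≫ g := IsOpenImmersion.lift_fac _ _ _
  haveI : f₀.IsOver SC := ⟨by
    rw [← comp_over (Scheme.Opens.ι S₀) SC, ← Category.assoc, e₁, Category.assoc,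
      comp_over f SC, comp_over (Scheme.Opens.ι X₀) SC]⟩
  haveI : g₀.IsOver SC := ⟨by
    rw [← comp_over (Scheme.Opens.ι S₀) SC, ← Category.assoc, e₂, Category.assoc,
      comp_over g SC, comp_over (Scheme.Opens.ι Y₀) SC]⟩
  have hz : z₀ ∈ Set.range (Pts.map (pullback.map f₀ g₀ f g (Scheme.Opens.ι X₀)
      (Scheme.Opens.ι Y₀) (Scheme.Opens.ι S₀) e₁ e₂)) := by
    rw [range_map_of_isOpenImmersion, Scheme.Pullback.range_map, Scheme.Opens.range_ι,
      Scheme.Opens.range_ι]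
    exact ⟨hxX₀, hyY₀⟩
  obtain ⟨w₀, rfl⟩ := hz
  exact image_mem_nhds f g f₀ g₀ (Scheme.Opens.ι X₀) (Scheme.Opens.ι Y₀) (Scheme.Opens.ι S₀)
    e₁ e₂ O hO w₀ hz₀

end Groth.Agent.Helper7.AnProd
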