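import Mathlib
import Groth.Prelude.Def_AnPts
import Groth.Agent.Lib.Helper7.AnProd.Main
import Groth.Agent.Lib.Helper7.AnDense.Main

set_option linter.style.haveILetI false
set_option linter.unusedVariables false
set_option linter.unusedSectionVars false
set_option autoImplicit false
set_option backward.isDefEq.respectTransparency.types false
set_option synthInstance.maxHeartbeats 400000
set_option maxHeartbeats 800000

open AlgebraicGeometry CategoryTheory TopologicalSpace Opposite An Topology Limits
open Groth.Agent.Helper7.AnPts Groth.Agent.Helper7.AnDense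

namespace Groth.Agent.Helper7.AnProd

section Diag

variable {X Y : Scheme.{0}} [X.Over SC] [Y.Over SC] (f : X ⟶ Y) [f.IsOver SC]

instance diagonal_isOver : (pullback.diagonal f).IsOver SC := ⟨by
  show pullback.diagonal f ≫ (pullback.fst f f ≫ X ↘ SC) = X ↘ SC
  rw [← Category.assoc, pullback.diagonal_fst, Category.id_comp]⟩

theorem cmp_map_diagonal (x : Pts X) :
    cmp f f (Pts.map (pullback.diagonal f) x) = toPullbackDiag (Pts.map f) x := by
  apply Subtype.ext
  apply Prod.ext
  · apply Subtype.ext
    show (x.1 ≫ pullback.diagonal f) ≫ pullback.fst f f = x.1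
    rw [Category.assoc, pullback.diagonal_fst, Category.comp_id]
  · apply Subtype.ext
    show (x.1 ≫ pullback.diagonal f) ≫ pullback.snd f f = x.1
    rw [Category.assoc, pullback.diagonal_snd, Category.comp_id]

end Diag

theorem S4195_main (X Y : Scheme.{0}) [X.Over SC] [LocallyOfFiniteType (X ↘ SC)]
    [Y.Over SC] [LocallyOfFiniteType (Y ↘ SC)] (f : X ⟶ Y) [f.IsOver SC] :
    IsSeparated f ↔ IsSeparatedMap (Pts.map f) := by
  have hfY : f ≫ (Y ↘ SC) = X ↘ SC := comp_over f SC
  have hlft : LocallyOfFiniteType f := by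
    have : LocallyOfFiniteType (f ≫ (Y ↘ SC)) := by rw [hfY]; infer_instance
    exact locallyOfFiniteType_of_comp f (Y ↘ SC)
  haveI hP : LocallyOfFiniteType (pullback f f ↘ SC) := by
    show LocallyOfFiniteType (pullback.fst f f ≫ X ↘ SC)
    infer_instance
  haveI hN : IsLocallyNoetherian (pullback f f) :=
    LocallyOfFiniteType.isLocallyNoetherian (pullback f f ↘ SC)
  haveI hΔ : LocallyOfFiniteType (pullback.diagonal f) := by
    have : LocallyOfFiniteType (pullback.diagonal f ≫ pullback.fst f f) := by
      rw [pullback.diagonal_fst]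
      infer_instance
    exact locallyOfFiniteType_of_comp (pullback.diagonal f) (pullback.fst f f)
  have hlc : IsLocallyConstructible (Set.range (pullback.diagonal f)) := by
    obtain ⟨U, Z, hU, hZ, hUZ⟩ := (pullback.diagonal f).isLocallyClosed_range
    rw [hUZ]
    exact isLocallyConstructible_of_isOpen_inter_isClosed U Z hU hZ
  have hrange : Set.range (Pts.map (pullback.diagonal f)) =
      Pts.pt ⁻¹' Set.range (pullback.diagonal f) := by
    ext z
    constructor
    · rintro ⟨x, rfl⟩
      show (Pts.map (pullback.diagonal f) x).pt ∈ Set.range (pullback.diagonal f)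
      rw [Pts.pt_map]
      exact ⟨x.pt, rfl⟩
    · intro hz
      exact exists_lift_of_mem_range _ z hz
  have hcl : IsClosed (Set.range (pullback.diagonal f)) ↔
      IsClosed (Pts.pt ⁻¹' Set.range (pullback.diagonal f) : Set (Pts (pullback f f))) := by
    rw [← isOpen_compl_iff, ← isOpen_compl_iff, ← Set.preimage_compl]
    exact S4189_main _ _ (isLocallyConstructible_compl hlc)
  have hhomeo := S4193_main X X Y f f
  have himg : cmp f f '' Set.range (Pts.map (pullback.diagonal f)) =
      (Pts.map f).pullbackDiagonal := by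
    rw [← range_toPullbackDiag, ← Set.range_comp]
    congr 1
    funext x
    exact cmp_map_diagonal f x
  rw [isSeparatedMap_iff_isClosed_diagonal, ← himg,
    ← hhomeo.isClosedEmbedding.isClosed_iff_image_isClosed, hrange, ← hcl]
  constructor
  · intro h
    haveI := h.isClosedImmersion_diagonal
    exact (pullback.diagonal f).isClosedEmbedding.isClosed_range
  · intro h
    exact ⟨IsClosedImmersion.of_isPreimmersion _ h⟩

theorem S4204_main (X : Scheme.{0}) [X.Over SC] [LocallyOfFiniteType (X ↘ SC)] :
    IsSeparated (X ↘ SC) ↔ T2Space (Pts X) := by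
  letI iSC : SC.Over SC := ⟨𝟙 SC⟩
  haveI : LocallyOfFiniteType (SC ↘ SC) := by
    show LocallyOfFiniteType (𝟙 SC)
    infer_instance
  haveI : (X ↘ SC).IsOver SC := ⟨Category.comp_id _⟩
  have h1 := S4195_main X SC (X ↘ SC)
  rw [h1]
  have hsub : ∀ a b : Pts SC, a = b := by
    intro a b
    apply Subtype.ext
    have ha : a.1 ≫ 𝟙 SC = 𝟙 SC := a.2
    have hb : b.1 ≫ 𝟙 SC = 𝟙 SC := b.2
    rw [Category.comp_id] at ha hb
    rw [ha, hb]
  constructor
  · intro h
    exact ⟨fun x₁ x₂ hne => h x₁ x₂ (hsub _ _) hne⟩
  · intro h x₁ x₂ _ hne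
    exact t2_separation hne

end Groth.Agent.Helper7.AnProd
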